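import Cfsg.Agent.Comp.F3.S0
import Cfsg.Agent.Comp.F3.S1
import Cfsg.Agent.Comp.F3.L
import Cfsg.Agent.Comp.F3.Z
import Cfsg.Agent.Comp.Fi24.Main

set_option autoImplicit false
set_option maxRecDepth 100000

namespace Cfsg.Agent.Comp.F3
open Cfsg.Agent.Comp Cfsg.Agent.Comp.Lab Cfsg.Agent.Comp.Fi24

def R0 : List (List Nat) := (g0 ++ (g1 ++ (g2 ++ (g3 ++ (g4 ++ (g5 ++ (g6 ++ (g7 ++ (g8 ++ (g9 ++ (g10 ++ (g11 ++ (g12 ++ g13))))))))))))) ++ [lw]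

theorem sat0 : Sat t R0 := Sat.append (s0.append (s1.append (s2.append (s3.append (s4.append (s5.append (s6.append (s7.append (s8.append (s9.append (s10.append (s11.append (s12.append s13))))))))))))) fun w hw => by
  rw [List.mem_singleton.mp hw]; exact l.eq_one

theorem ez : ev t zw = zeta 306936 := z.eq_zeta

def I : List (List Nat) := [[0, 2], [0, 3], [0, 4], [0, 5], [0, 6], [0, 7], [0, 8], [0, 9], [0, 10], [0, 11], [1, 3]]

def J : List (List Nat) := [[5, 0], [0, 4], [3, 0], [0, 2], [1, 3], [3, 0], [5, 0], [0, 6], [7, 0], [0, 8], [9, 0], [0, 5], [10, 0], [0, 11], [5, 0], [0, 4], [3, 0], [0, 2], [1, 3], [3, 0], [5, 0], [0, 6], [7, 0], [0, 8], [9, 0], [0, 5], [10, 0], [0, 11], [5, 0], [0, 4], [3, 0], [0, 2], [1, 3], [3, 0], [5, 0], [0, 6], [7, 0], [0, 8], [9, 0], [0, 5], [10, 0], [0, 11], [5, 0], [0, 4], [3, 0], [0, 2], [1, 3], [3, 0], [5, 0], [0, 6], [7, 0], [0,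 8], [9, 0], [0, 5], [10, 0], [0, 11], [5, 0], [0, 4], [3, 0], [0, 2], [1, 3], [3, 0], [5, 0], [0, 6], [7, 0], [0, 8], [9, 0], [0, 5], [10, 0], [0, 11], [5, 0], [0, 4], [3, 0], [0, 2], [1, 3], [3, 0], [5, 0], [0, 6], [7, 0], [0, 8], [9, 0], [0, 5], [10, 0], [0, 11], [5, 0], [0, 4], [3, 0], [0, 2], [1, 3], [3, 0], [5, 0], [0, 6], [7, 0], [0, 8], [9, 0], [0, 5], [10, 0], [0, 11], [5, 0], [0, 4], [3, 0], [0, 2], [1, 3], [3, 0], [5, 0], [0, 6], [7, 0], [0, 8], [9, 0], [0, 5], [10, 0], [0, 11], [5, 0], [0, 4], [3, 0], [0, 2], [1, 3], [3, 0], [5, 0], [0, 6], [7, 0], [0, 8], [9, 0], [0, 5], [10, 0], [0, 11], [5, 0], [0, 4], [3, 0], [0, 2], [1, 3], [3, 0], [5, 0], [0, 6], [7, 0], [0, 8], [9, 0], [0, 5], [10, 0], [0, 11], [5, 0], [0, 4], [3, 0], [0, 2], [1, 3], [3, 0], [5, 0], [0, 6], [7, 0], [0, 8], [9, 0], [0, 5], [10, 0], [0, 11], [5, 0], [0, 4], [3, 0], [0, 2], [1, 3], [3,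 0], [5, 0], [0, 6], [7, 0], [0, 8], [9, 0], [0, 5], [10, 0], [0, 11], [5, 0], [0, 4], [3, 0], [0, 2], [1, 3], [3, 0], [5, 0], [0, 6], [7, 0], [0, 8], [9, 0], [0, 5], [10, 0], [0, 11], [5, 0], [0, 4], [3, 0], [0, 2], [1, 3], [3, 0], [5, 0], [0, 6], [7, 0], [0, 8], [9, 0], [0, 5], [10, 0], [0, 11], [5, 0], [0, 4], [3, 0], [0, 2], [1, 3], [3, 0], [5, 0], [0, 6], [7, 0], [0, 8], [9, 0], [0, 5], [10, 0], [0, 11], [5, 0], [0, 4], [3, 0], [0, 2], [1, 3], [3, 0], [5, 0], [0, 6], [7, 0], [0, 8], [9, 0], [0, 5], [10, 0], [0, 11], [5, 0], [0, 4], [3, 0], [0, 2], [1, 3], [3, 0], [5, 0], [0, 6], [7, 0], [0, 8], [9, 0], [0, 5], [10, 0], [0, 11]]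

theorem lowK : Schur.Low eps.ker 3 := by
  have := card.1
  exact low_of_lift (z := zw) (I := I) (J := J) pres (by decide +kernel) (by decide +kernel) (by decide +kernel) sat0 (ez ▸ zeta3 _)
    (ez ▸ zeta_ne (by norm_num)) (fun x => ez ▸ zeta_inv ok A B x)
    (fun x hx => (sign x hx).trans (if_pos (List.mem_range.mpr hx))) (by decide +kernel) (by decide +kernel) (by decide +kernel) (by decide +kernel)

end Cfsg.Agent.Comp.F3
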